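import Groth.Agent.Lib.AlgSpDiv.Basic
import Groth.Agent.Lib.AlgSpace.OpenSubExists
import Groth.Prelude.Def_W4stk3spdivBlowUp

/-!
# Blowing ups of algebraic spaces on etale charts
-/

set_option autoImplicit false
set_option linter.style.haveILetI false

universe u

open CategoryTheory CategoryTheory.Limits AlgebraicGeometry
open AlgSp Groth.Agent.Lib.AlgSpace Groth.Agent.Lib.AlgSpMor Groth.Agent.Lib.AlgSpMor.SchImage
open Groth.Agent.Lib.AlgSpDiv

namespace Groth.Agent.Lib.BlowUpSp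

variable {S : Scheme.{u}} {X Z : Sp S} {i : Z ⟶ X}

/-- An inverse image which is effective Cartier is so on every etale chart. -/
theorem isEffCartier_of_invImage {Y : Sp S} (hY : IsAlgSpace Y) {g : Y ⟶ X}
    (hg : InvImageIsEffCartier i g) {T : Over S} {φ : (yon S).obj T ⟶ Y} (hφ : RepWith @Etale φ)
    {J : T.left.IdealSheafData} (hJ : Cut i (φ ≫ g) J) : BlowUp.IsEffCartierIdeal J := by
  obtain ⟨P, fst, snd, sq, hD⟩ := hg
  exact isEffCartier_of_cut hY hD hφ ((cut_iff_of_isPullback sq φ J).2 hJ)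

/-- An inverse image which is effective Cartier on an etale atlas is effective Cartier. -/
theorem invImage_of_chart (hi : RepWith @IsClosedImmersion i) {Y : Sp S} {g : Y ⟶ X} {T : Over S}
    {φ : (yon S).obj T ⟶ Y} (hφ : RepWith @Etale φ) (hφs : RepWith @Surjective φ)
    {J : T.left.IdealSheafData} (hJ : Cut i (φ ≫ g) J) (hE : BlowUp.IsEffCartierIdeal J) :
    InvImageIsEffCartier i g :=
  ⟨pullback i g, pullback.fst _ _, pullback.snd _ _, IsPullback.of_hasPullback _ _,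
    isEffCartierSub_iff.2 ⟨repWith_baseChange (IsPullback.of_hasPullback i g) hi, T, φ, J, hφ, hφs,
      (cut_iff_of_isPullback (IsPullback.of_hasPullback i g) φ J).2 hJ, hE⟩⟩

/-- The blow-up of a scheme has the universal property among algebraic spaces. -/
theorem existsUnique_lift {U P : Over S} {ξ : (yon S).obj U ⟶ X} {I : U.left.IdealSheafData}
    (hI : Cut i ξ I) (β : P ⟶ U) (hβ : BlowUp.IsBlowUp β.left I) {Y : Sp S} (hY : IsAlgSpace Y)
    (g : Y ⟶ (yon S).obj U) (hg : InvImageIsEffCartier i (g ≫ ξ)) :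
    ∃! h : Y ⟶ (yon S).obj P, h ≫ (yon S).map β = g := by
  obtain ⟨V, p, hp, hps⟩ := hY.atlas
  haveI := isLocallySurjective_of_etale hp hps
  have lift : ∀ (W : Over S) (φ : (yon S).obj W ⟶ Y), RepWith @Etale φ →
      ∀ a : W ⟶ U, (yon S).map a = φ ≫ g → ∃! l : W ⟶ P, l ≫ β = a := by
    intro W φ hφ a ha
    have hE : BlowUp.IsEffCartierIdeal (I.comap a.left) :=
      isEffCartier_of_invImage hY hg hφ (by
        rw [← Category.assoc, ← ha]
        exact hI.comap a)
    obtain ⟨l, hl, hu⟩ := hβ.2 W.left a.left hE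
    refine ⟨Over.homMk l (by rw [← Over.w β, ← Category.assoc, hl, Over.w a]),
      Over.OverMorphism.ext hl, fun l' hl' => Over.OverMorphism.ext (hu _ ?_)⟩
    exact congrArg (fun m => m.left) hl'
  obtain ⟨R, r₁, r₂, sqR⟩ := exists_isPullback_yon hY.diag p p
  obtain ⟨a, ha⟩ := (yon S).map_surjective (p ≫ g)
  obtain ⟨l, hl, hlu⟩ := lift V p hp a ha
  have hr : Etale r₁.left := repWith_property hp sqR.flip
  obtain ⟨l₀, hl₀, hru⟩ := lift R ((yon S).map r₁ ≫ p) (repWith_comp (repWith_etale_yon_map hr) hp)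
    (r₁ ≫ a) (by rw [Functor.map_comp, ha, Category.assoc])
  have hR : r₁ ≫ l = r₂ ≫ l := by
    refine (hru (r₁ ≫ l) ?_).trans (hru (r₂ ≫ l) ?_).symm
    · show (r₁ ≫ l) ≫ β = r₁ ≫ a
      rw [Category.assoc, hl]
    · show (r₂ ≫ l) ≫ β = r₁ ≫ a
      rw [Category.assoc, hl]
      exact (yon S).map_injective (by
        rw [Functor.map_comp, Functor.map_comp, ha, reassoc_of% sqR.w])
  obtain ⟨h, hh⟩ := Groth.Agent.Lib.AlgSpace.exists_desc p sqR ((yon S).map l) (by
    rw [← Functor.map_comp, ← Functor.map_comp, hR])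
  haveI : Epi p := (Sheaf.isLocallySurjective_iff_epi' (Type (u + 1)) _).1 inferInstance
  refine ⟨h, ?_, fun h' hh' => ?_⟩
  · show h ≫ (yon S).map β = g
    rw [← cancel_epi p, reassoc_of% hh, ← Functor.map_comp, hl, ha]
  · obtain ⟨l', hl'⟩ := (yon S).map_surjective (p ≫ h')
    rw [← cancel_epi p, hh, ← hl']
    congr 1
    exact hlu l' ((yon S).map_injective (by rw [Functor.map_comp, hl', Category.assoc, hh', ha]))

/-- On an etale chart the blowing up of a space is the blowing up of the chart. -/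
theorem exists_iso_chart (hi : RepWith @IsClosedImmersion i) {X' : Sp S} (hX : IsAlgSpace X)
    (hX' : IsAlgSpace X') {b : X' ⟶ X} (hb : IsBlowUpSp b i) {U P : Over S}
    {ξ : (yon S).obj U ⟶ X} (hξ : RepWith @Etale ξ) {I : U.left.IdealSheafData} (hI : Cut i ξ I)
    (β : P ⟶ U) (hβ : BlowUp.IsBlowUp β.left I) :
    ∃ fst : (yon S).obj P ⟶ X', IsPullback fst ((yon S).map β) b ξ := by
  let Q := pullback b ξ
  let q₁ : Q ⟶ X' := pullback.fst b ξ
  let q₂ : Q ⟶ (yon S).obj U := pullback.snd b ξ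
  have sqQ : IsPullback q₁ q₂ b ξ := IsPullback.of_hasPullback b ξ
  have hQ : IsAlgSpace Q := isAlgSpace_of_isPullback sqQ hX.diag hX' (IsAlgSpace.yon_obj U)
  have hq₁ : RepWith @Etale q₁ := repWith_baseChange sqQ.flip hξ
  have hQg : InvImageIsEffCartier i (q₁ ≫ b) := by
    obtain ⟨T, φ, hφ, hφs⟩ := hQ.atlas
    obtain ⟨J, hJ⟩ := exists_cut hi (φ ≫ q₁ ≫ b)
    refine invImage_of_chart hi hφ hφs hJ (isEffCartier_of_invImage hX' hb.1
      (repWith_comp hφ hq₁) ?_)
    rw [Category.assoc]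
    exact hJ
  have hQg' : InvImageIsEffCartier i (q₂ ≫ ξ) := by rw [← sqQ.w]; exact hQg
  obtain ⟨l, hl, -⟩ := existsUnique_lift hI β hβ hQ q₂ hQg'
  have hPg : InvImageIsEffCartier i ((yon S).map β ≫ ξ) := by
    refine invImage_of_chart hi (repWith_id _ P) (repWith_id _ P) (J := I.comap β.left) ?_ hβ.1
    rw [Category.id_comp]
    exact hI.comap β
  obtain ⟨m₁, hm₁, -⟩ := hb.2 (IsAlgSpace.yon_obj P) ((yon S).map β ≫ ξ) hPg
  let m : (yon S).obj P ⟶ Q := pullback.lift m₁ ((yon S).map β) hm₁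
  have hm₁' : m ≫ q₁ = m₁ := pullback.lift_fst _ _ _
  have hm₂ : m ≫ q₂ = (yon S).map β := pullback.lift_snd _ _ _
  have hml : m ≫ l = 𝟙 _ :=
    (existsUnique_lift hI β hβ (IsAlgSpace.yon_obj P) ((yon S).map β) hPg).unique
      (by rw [Category.assoc, hl, hm₂]) (Category.id_comp _)
  have hlm : l ≫ m = 𝟙 _ := by
    refine pullback.hom_ext ?_ ?_
    · rw [Category.assoc, Category.id_comp]
      show l ≫ m ≫ q₁ = q₁
      rw [hm₁']
      refine (hb.2 hQ (q₁ ≫ b) hQg).unique ?_ rfl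
      rw [Category.assoc, hm₁, reassoc_of% hl, sqQ.w]
    · rw [Category.assoc, Category.id_comp]
      show l ≫ m ≫ q₂ = q₂
      rw [hm₂, hl]
  let e : (yon S).obj P ≅ Q := ⟨m, l, hml, hlm⟩
  exact ⟨m₁, sqQ.of_iso e.symm (Iso.refl _) (Iso.refl _) (Iso.refl _)
    (by simp [e]; rw [← hm₁', reassoc_of% hlm]) (by simp [e]; exact hl.symm) (by simp) (by simp)⟩

end Groth.Agent.Lib.BlowUpSp
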